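import Groth.Agent.GaloisCat.Basic
import Mathlib.CategoryTheory.Galois.Prorepresentability
import Mathlib.CategoryTheory.Limits.Preserves.Finite

/-!
# Uniqueness of fibre functors
-/

set_option autoImplicit false
set_option linter.style.haveILetI false
set_option backward.isDefEq.respectTransparency.types false
universe u₁ v₁ w

namespace Groth.Agent.GaloisCat

open CategoryTheory Limits PreGaloisCategory

variable {C : Type u₁} [Category.{v₁} C] [GaloisCategory C]

theorem isCofilteredOrEmpty (F : C ⥤ FintypeCat.{w}) [FiberFunctor F] :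
    IsCofilteredOrEmpty (PointedGaloisObject F) where
  cone_objs := fun ⟨A, a, _⟩ ⟨B, b, _⟩ => by
    obtain ⟨Z, f, z, hgal, hfz⟩ := exists_hom_from_galois_of_fiber F (A ⨯ B)
      <| (fiberBinaryProductEquiv F A B).symm (a, b)
    refine ⟨⟨Z, z, hgal⟩, ⟨f ≫ prod.fst, ?_⟩, ⟨f ≫ prod.snd, ?_⟩, trivial⟩
    · simp only [F.map_comp, hfz, FintypeCat.comp_apply, fiberBinaryProductEquiv_symm_fst_apply]
    · simp only [F.map_comp, hfz, FintypeCat.comp_apply, fiberBinaryProductEquiv_symm_snd_apply]
  cone_maps := fun ⟨A, a, _⟩ ⟨B, b, _⟩ ⟨f, hf⟩ ⟨g, hg⟩ => by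
    obtain ⟨Z, h, z, hgal, hhz⟩ := exists_hom_from_galois_of_fiber F A a
    refine ⟨⟨Z, z, hgal⟩, ⟨h, hhz⟩, PointedGaloisObject.hom_ext ?_⟩
    apply evaluation_injective_of_isConnected F Z B z
    simp [hhz, hf, hg]

/-- A left exact functor to finite sets preserving binary coproducts and nonempty on noninitial
objects is isomorphic to a fibre functor. -/
theorem nonempty_iso_fiberFunctor (F : C ⥤ FintypeCat.{w}) [FiberFunctor F] (F' : C ⥤ FintypeCat.{w})
    [PreservesFiniteLimits F'] [PreservesColimitsOfShape (Discrete WalkingPair) F']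
    (h : ∀ X : C, IsEmpty (F'.obj X) → Nonempty (IsInitial X)) : Nonempty (F' ≅ F) := by
  classical
  haveI := isCofilteredOrEmpty F
  -- `F'` of the initial object is empty
  have h0 : IsEmpty (F'.obj (⊥_ C)) := by
    let c : BinaryCofan (⊥_ C) (⊥_ C) := BinaryCofan.mk (𝟙 _) (𝟙 _)
    have hc : IsColimit c := BinaryCofan.IsColimit.mk _ (fun f _ => f) (fun f g => Category.id_comp _)
      (fun f g => initialIsInitial.hom_ext _ _) fun f g m hm _ => (Category.id_comp m).symm.trans hm
    have hd : IsColimit (BinaryCofan.mk (𝟙 (F'.obj (⊥_ C))) (𝟙 (F'.obj (⊥_ C)))) := by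
      refine (isColimitMapCoconeBinaryCofanEquiv F' c.inl c.inr (isColimitOfPreserves F' hc)).ofIsoColimit
        (BinaryCofan.ext (Iso.refl _) ?_ ?_)
      · show F'.map (𝟙 (⊥_ C)) ≫ 𝟙 _ = 𝟙 _
        rw [F'.map_id]; exact Category.id_comp _
      · show F'.map (𝟙 (⊥_ C)) ≫ 𝟙 _ = 𝟙 _
        rw [F'.map_id]; exact Category.id_comp _
    refine ⟨fun z => ?_⟩
    let T := FintypeCat.of (ULift.{w} Bool)
    let f : F'.obj (⊥_ C) ⟶ T := FintypeCat.homMk fun _ => ⟨true⟩
    let g : F'.obj (⊥_ C) ⟶ T := FintypeCat.homMk fun _ => ⟨false⟩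
    obtain ⟨m, hm1, hm2⟩ : ∃ m, 𝟙 _ ≫ m = f ∧ 𝟙 _ ≫ m = g := ⟨hd.desc (BinaryCofan.mk f g),
      hd.fac (BinaryCofan.mk f g) ⟨WalkingPair.left⟩, hd.fac (BinaryCofan.mk f g) ⟨WalkingPair.right⟩⟩
    have hfg : f = g := hm1.symm.trans hm2
    have := congrArg (fun f => (f z).down) (congrArg ConcreteCategory.hom hfg)
    simp [f, g] at this
  haveI : PreservesColimit (Functor.empty.{0} C) F' := by
    refine preservesColimit_of_preserves_colimit_cocone initialIsInitial ?_
    refine (isColimitMapCoconeEmptyCoconeEquiv F' _).symm (IsInitial.ofUniqueHom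
      (fun Y => FintypeCat.homMk fun z => h0.elim z) fun Y m => ConcreteCategory.hom_ext _ _ fun z => h0.elim z)
  haveI : PreservesColimitsOfShape (Discrete PEmpty.{1}) F' := preservesColimitsOfShape_pempty_of_preservesInitial F'
  haveI : PreservesFiniteCoproducts F' := ⟨fun _ => PreservesFiniteCoproducts.of_preserves_binary_and_initial F' _⟩
  -- compatible points
  let Ψ : PointedGaloisObject F ⥤ Type w := PointedGaloisObject.incl F ⋙ F' ⋙ FintypeCat.incl
  haveI : ∀ A, Finite (Ψ.obj A) := fun A => inferInstanceAs (Finite (F'.obj A.obj))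
  haveI : ∀ A, Nonempty (Ψ.obj A) := fun A => by
    haveI := A.isGalois
    show Nonempty (F'.obj A.obj)
    by_contra hne
    rw [not_nonempty_iff] at hne
    obtain ⟨i⟩ := h _ hne
    exact PreGaloisCategory.IsConnected.notInitial i
  obtain ⟨ξ, hξ⟩ := nonempty_sections_of_finite_cofiltered_system Ψ
  let ξ' : ∀ A : PointedGaloisObject F, F'.obj A.obj := fun A => ξ A
  have hξ' : ∀ {A B : PointedGaloisObject F} (g : A ⟶ B), F'.map g.val (ξ' A) = ξ' B := fun g => hξ g
  -- the transformation
  have hex : ∀ (X : C) (x : F.obj X), ∃ (A : PointedGaloisObject F) (f : A.obj ⟶ X), F.map f A.pt = x :=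
    fun X x => by
      obtain ⟨A, f, a, hA, hf⟩ := exists_hom_from_galois_of_fiber F X x
      exact ⟨⟨A, a, hA⟩, f, hf⟩
  choose A f hf using hex
  have key : ∀ {X : C} (B : PointedGaloisObject F) (g : B.obj ⟶ X),
      F'.map g (ξ' B) = F'.map (f X (F.map g B.pt)) (ξ' (A X (F.map g B.pt))) := by
    intro X B g
    obtain ⟨Z, u, v, -⟩ := IsCofilteredOrEmpty.cone_objs B (A X (F.map g B.pt))
    haveI := Z.isGalois
    have e : u.val ≫ g = v.val ≫ f X (F.map g B.pt) := by
      refine evaluation_injective_of_isConnected F Z.obj X Z.pt ?_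
      show F.map (u.val ≫ g) Z.pt = F.map (v.val ≫ f X (F.map g B.pt)) Z.pt
      rw [F.map_comp, F.map_comp, FintypeCat.comp_apply, FintypeCat.comp_apply, u.comp, v.comp, hf]
    rw [← hξ' u, ← hξ' v, ← FintypeCat.comp_apply, ← F'.map_comp, e, F'.map_comp, FintypeCat.comp_apply]
  let η : ∀ X, F.obj X → F'.obj X := fun X x => F'.map (f X x) (ξ' (A X x))
  have ηnat : ∀ {X Y : C} (g : X ⟶ Y) (x : F.obj X), η Y (F.map g x) = F'.map g (η X x) := by
    intro X Y g x
    have := key (A X x) (f X x ≫ g)
    rw [F.map_comp, FintypeCat.comp_apply, hf, F'.map_comp, FintypeCat.comp_apply] at this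
    exact this.symm
  have ηinj : ∀ X, Function.Injective (η X) := by
    intro X x y hxy
    obtain ⟨Z, u, v, -⟩ := IsCofilteredOrEmpty.cone_objs (A X x) (A X y)
    haveI := Z.isGalois
    let g₁ := u.val ≫ f X x
    let g₂ := v.val ≫ f X y
    have hx : F.map g₁ Z.pt = x := by simp [g₁, u.comp, hf]
    have hy : F.map g₂ Z.pt = y := by simp [g₂, v.comp, hf]
    have hg : F'.map g₁ (ξ' Z) = F'.map g₂ (ξ' Z) := by
      rw [key Z g₁, key Z g₂, hx, hy]; exact hxy
    let E := equalizer g₁ g₂
    have hne : IsInitial E → False := by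
      intro hi
      haveI : IsEmpty (F'.obj E) := ⟨fun z => h0.elim (F'.map (hi.to _) z)⟩
      let l : FintypeCat.of PUnit.{w+1} ⟶ F'.obj Z.obj := FintypeCat.homMk fun _ => ξ' Z
      have hl : l ≫ F'.map g₁ = l ≫ F'.map g₂ := ConcreteCategory.hom_ext _ _ fun _ => hg
      let l' : FintypeCat.of PUnit.{w+1} ⟶ F'.obj E := equalizer.lift l hl ≫ (PreservesEqualizer.iso F' g₁ g₂).inv
      exact IsEmpty.false (l' PUnit.unit)
    haveI : IsIso (equalizer.ι g₁ g₂) := PreGaloisCategory.IsConnected.noTrivialComponent E _ hne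
    have : g₁ = g₂ := eq_of_epi_equalizer
    rw [← hx, ← hy, this]
  have ηbij : ∀ X, Function.Bijective (η X) := by
    intro X
    -- split `X` by a Galois object
    obtain ⟨B, b, hB, hbij⟩ := exists_galois_representative F X
    haveI := hB
    let BP : PointedGaloisObject F := ⟨B, b, hB⟩
    have split : ∀ (Y : C), Function.Surjective (fun g : B ⟶ Y => F.map g b) →
        Nat.card (F'.obj B) * Nat.card (F'.obj Y) = Nat.card (F.obj Y) * Nat.card (F'.obj B) := by
      intro Y hY
      choose g hg using hY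
      haveI : Fintype (F.obj Y) := Fintype.ofFinite _
      let J := Fin (Fintype.card (F.obj Y))
      let e : J ≃ F.obj Y := (Fintype.equivFin _).symm
      let s : (∐ fun _ : J => B) ⟶ B ⨯ Y := Sigma.desc fun j => prod.lift (𝟙 B) (g (e j))
      have cardcop : ∀ (G : C ⥤ FintypeCat.{w}) [PreservesFiniteCoproducts G],
          Nat.card (G.obj (∐ fun _ : J => B)) = Nat.card J * Nat.card (G.obj B) := by
        intro G _
        have e2 : G.obj (∐ fun _ : J => B) ≃ J × G.obj B :=
          ((PreservesCoproduct.iso (G ⋙ FintypeCat.incl) fun _ : J => B) ≪≫ Types.coproductIso _).toEquiv.trans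
            (Equiv.sigmaEquivProd J (G.obj B))
        rw [Nat.card_congr e2, Nat.card_prod]
      haveI : IsIso (F.map s) := by
        rw [ConcreteCategory.isIso_iff_bijective]
        refine (Nat.bijective_iff_injective_and_card _).mpr ⟨?_, ?_⟩
        · intro z₁ z₂ hz
          let s' := isColimitOfPreserves F (coproductIsCoproduct fun _ : J => B)
          obtain ⟨⟨j₁⟩, (t₁ : F.obj B), rfl⟩ := Concrete.isColimit_exists_rep _ s' z₁
          obtain ⟨⟨j₂⟩, (t₂ : F.obj B), rfl⟩ := Concrete.isColimit_exists_rep _ s' z₂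
          change F.map s (F.map (Sigma.ι (fun _ : J => B) j₁) t₁) = F.map s (F.map (Sigma.ι (fun _ : J => B) j₂) t₂) at hz
          rw [← FintypeCat.comp_apply, ← FintypeCat.comp_apply, ← F.map_comp, ← F.map_comp, Sigma.ι_desc, Sigma.ι_desc] at hz
          have h1 := congrArg (F.map prod.fst) hz
          rw [← FintypeCat.comp_apply, ← FintypeCat.comp_apply, ← F.map_comp, ← F.map_comp, prod.lift_fst,
            prod.lift_fst, F.map_id] at h1
          have h1' : t₁ = t₂ := h1
          subst h1'
          have h2 := congrArg (F.map prod.snd) hz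
          rw [← FintypeCat.comp_apply, ← FintypeCat.comp_apply, ← F.map_comp, ← F.map_comp, prod.lift_snd,
            prod.lift_snd] at h2
          have h3 : g (e j₁) = g (e j₂) := evaluation_injective_of_isConnected F B Y t₁ h2
          have h4 : e j₁ = e j₂ := by rw [← hg (e j₁), h3]; exact hg _
          rw [e.injective h4]
        · rw [cardcop F, Nat.card_congr (fiberBinaryProductEquiv F B Y), Nat.card_prod, Nat.card_congr e, mul_comm]
      haveI := isIso_of_reflects_iso s F
      have e1 := Nat.card_congr (FintypeCat.equivEquivIso.symm (F'.mapIso (asIso s)))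
      have e2 : Nat.card (F'.obj (B ⨯ Y)) = Nat.card (F'.obj B) * Nat.card (F'.obj Y) := by
        exact (Nat.card_congr ((PreservesLimitPair.iso (F' ⋙ FintypeCat.incl) B Y) ≪≫
          Types.binaryProductIso (F'.obj B) (F'.obj Y)).toEquiv).trans (Nat.card_prod _ _)
      rw [← e2, ← e1, cardcop F', Nat.card_congr e]
    haveI : Nonempty (F'.obj B) := ⟨ξ' BP⟩
    have hpos : 0 < Nat.card (F'.obj B) := Nat.card_pos
    have := split X hbij.2
    rw [mul_comm] at this
    exact (Nat.bijective_iff_injective_and_card _).mpr ⟨ηinj X, (Nat.eq_of_mul_eq_mul_right hpos this).symm⟩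
  let ηc : ∀ X, F.obj X ≅ F'.obj X := fun X => FintypeCat.equivEquivIso (Equiv.ofBijective _ (ηbij X))
  exact ⟨(NatIso.ofComponents ηc fun g => ConcreteCategory.hom_ext _ _ fun x => ηnat g x).symm⟩

/-- A left exact functor to finite sets preserving epimorphisms is nonempty on non-initial objects. -/
theorem isInitial_of_isEmpty (F' : C ⥤ FintypeCat.{w}) [PreservesFiniteLimits F'] [F'.PreservesEpimorphisms]
    (X : C) (hX : IsEmpty (F'.obj X)) : Nonempty (IsInitial X) := by
  let G := GaloisCategory.getFiberFunctor C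
  rw [initial_iff_fiber_empty G]
  refine ⟨fun x => ?_⟩
  obtain ⟨Y, i, y, -, hY, -⟩ := fiber_in_connected_component G X x
  haveI : Nonempty (G.obj Y) := ⟨y⟩
  haveI : PreGaloisCategory.IsConnected (⊤_ C) := by
    haveI : Subsingleton (G.obj (⊤_ C)) := (Nat.card_eq_one_iff_unique.mp (card_terminal G)).1
    haveI : Nonempty (G.obj (⊤_ C)) := (Nat.card_eq_one_iff_unique.mp (card_terminal G)).2
    haveI : MulAction.IsPretransitive (Aut G) (G.obj (⊤_ C)) := ⟨fun a b => ⟨1, Subsingleton.elim _ _⟩⟩
    exact isConnected_of_isPretransitive G _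
  haveI : Epi (terminal.from Y) := epi_of_nonempty_of_isConnected G _
  have hsurj : Function.Surjective (F'.map (terminal.from Y)) :=
    (ConcreteCategory.epi_iff_surjective_of_preservesPushout _).mp inferInstance
  have hT : IsTerminal (F'.obj (⊤_ C)) := IsTerminal.isTerminalObj F' (⊤_ C) terminalIsTerminal
  obtain ⟨z, -⟩ := hsurj (hT.from (FintypeCat.of PUnit.{w+1}) PUnit.unit)
  exact hX.elim (F'.map i z)

theorem nonempty_iso_of_exact (F : C ⥤ FintypeCat.{w}) [FiberFunctor F] (F' : C ⥤ FintypeCat.{w})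
    [PreservesFiniteLimits F'] [PreservesFiniteColimits F'] : Nonempty (F' ≅ F) :=
  nonempty_iso_fiberFunctor F F' (isInitial_of_isEmpty F')

theorem fiberFunctor_of_iso {F F' : C ⥤ FintypeCat.{w}} [FiberFunctor F] (e : F ≅ F') : FiberFunctor F' :=
  haveI : PreservesFiniteCoproducts F' := ⟨fun _ => preservesColimitsOfShape_of_natIso e⟩
  { preservesTerminalObjects := preservesLimitsOfShape_of_natIso e
    preservesPullbacks := preservesLimitsOfShape_of_natIso e
    preservesEpis := Functor.preservesEpimorphisms.of_iso e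
    preservesQuotientsByFiniteGroups := fun _ _ _ => preservesColimitsOfShape_of_natIso e
    reflectsIsos := reflectsIsomorphisms_of_iso e }

/-- A left exact functor to finite sets preserving binary coproducts and epimorphisms is a fibre functor. -/
theorem fiberFunctor_of_preserves (F' : C ⥤ FintypeCat.{w}) [PreservesFiniteLimits F']
    [PreservesColimitsOfShape (Discrete WalkingPair) F'] [F'.PreservesEpimorphisms] : FiberFunctor F' := by
  let F := GaloisCategory.getFiberFunctor C ⋙ FintypeCat.uSwitch.{v₁, w}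
  letI : FiberFunctor F := FiberFunctor.comp_right _
  obtain ⟨e⟩ := nonempty_iso_fiberFunctor F F' (isInitial_of_isEmpty F')
  exact fiberFunctor_of_iso e.symm

end Groth.Agent.GaloisCat
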