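import Groth.Agent.GaloisCat.Basic
import Groth.Prelude.Def_Pi1X

/-!
# Exact functors of Galois categories and the induced map of fundamental groups
-/

set_option autoImplicit false
set_option linter.style.haveILetI false
set_option linter.unusedSectionVars false
set_option linter.unusedVariables false
set_option backward.isDefEq.respectTransparency.types false
universe u₁ v₁ w

namespace Groth.Agent.GaloisCat

open CategoryTheory Limits PreGaloisCategory

variable {C C' : Type u₁} [Category.{v₁} C] [Category.{v₁} C'] [GaloisCategory C] [GaloisCategory C']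
  (H : C ⥤ C') (F' : C' ⥤ FintypeCat.{w}) [FiberFunctor F'] [FiberFunctor (H ⋙ F')]

omit [GaloisCategory C] [GaloisCategory C'] [FiberFunctor F'] [FiberFunctor (H ⋙ F')] in
theorem autWhisker_smul (σ : Aut F') {X : C} (x : F'.obj (H.obj X)) :
    (Pi1X.autWhisker H F' σ) • (show (H ⋙ F').obj X from x) = (σ • x : F'.obj (H.obj X)) := rfl

theorem continuous_autWhisker : Continuous (Pi1X.autWhisker H F') := by
  refine continuous_of_continuousAt_one (Pi1X.autWhisker H F') ?_
  rw [ContinuousAt, map_one, (nhds_one_has_basis_stabilizers (H ⋙ F')).tendsto_right_iff]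
  intro A _
  exact (stabilizer_isOpen (Aut F') (show F'.obj (H.obj A.obj) from A.pt)).mem_nhds
    (Subgroup.one_mem _)

theorem isClosed_range_autWhisker : IsClosed ((Pi1X.autWhisker H F').range : Set (Aut (H ⋙ F'))) :=
  (isCompact_range (continuous_autWhisker H F')).isClosed

include F' in
theorem faithful_of_fiber : H.Faithful := by
  haveI : (H ⋙ F').Faithful := inferInstance
  exact Functor.Faithful.of_comp H F'

variable [PreservesFiniteLimits H]

theorem range_le_stabilizer_iff (X : C) (a : (H ⋙ F').obj X) :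
    (Pi1X.autWhisker H F').range ≤ MulAction.stabilizer (Aut (H ⋙ F')) a ↔
      ∃ s : ⊤_ C' ⟶ H.obj X, ∀ t : F'.obj (⊤_ C'), F'.map s t = a := by
  rw [← exists_section_iff F' (X := H.obj X) a]
  exact ⟨fun h σ => h ⟨σ, rfl⟩, by rintro h _ ⟨σ, rfl⟩; exact h σ⟩

theorem normalClosure_le_stabilizer_iff (X : C) [PreGaloisCategory.IsConnected X] (a : (H ⋙ F').obj X) :
    Subgroup.normalClosure ((Pi1X.autWhisker H F').range : Set (Aut (H ⋙ F'))) ≤ MulAction.stabilizer (Aut (H ⋙ F')) a ↔
      ∃ n : ℕ, Nonempty (H.obj X ≅ ∐ fun _ : Fin n => ⊤_ C') := by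
  rw [← forall_smul_iff F']
  constructor
  · intro h σ x
    obtain ⟨g, hg⟩ := MulAction.exists_smul_eq (Aut (H ⋙ F')) a x
    have h1 : (g⁻¹ * Pi1X.autWhisker H F' σ * g) • a = a := h (by
      have := (Subgroup.normalClosure_normal (s := ((Pi1X.autWhisker H F').range : Set (Aut (H ⋙ F'))))).conj_mem _
        (Subgroup.subset_normalClosure ⟨σ, rfl⟩) g⁻¹
      simpa using this)
    rw [mul_smul, mul_smul, hg, inv_smul_eq_iff, hg] at h1
    exact h1
  · intro h
    have : Subgroup.normalClosure ((Pi1X.autWhisker H F').range : Set (Aut (H ⋙ F'))) ≤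
        (MulAction.toPermHom (Aut (H ⋙ F')) ((H ⋙ F').obj X)).ker :=
      Subgroup.normalClosure_le_normal (by
        rintro _ ⟨σ, rfl⟩
        exact Equiv.ext fun x => h σ x)
    exact this.trans fun g hg => DFunLike.congr_fun (MonoidHom.mem_ker.mp hg) a

theorem autWhisker_eq_one_iff (σ : Aut F') :
    Pi1X.autWhisker H F' σ = 1 ↔ ∀ (X : C) (x : F'.obj (H.obj X)), σ • x = x := by
  constructor
  · intro h X x
    have := congrArg (fun τ : Aut (H ⋙ F') => τ • (show (H ⋙ F').obj X from x)) h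
    simpa using (autWhisker_smul H F' σ x).symm.trans (this.trans (one_smul _ _))
  · intro h
    exact eq_one_of_forall_smul (H ⋙ F') fun X _ x => h X x

theorem surjective_iff :
    Function.Surjective (Pi1X.autWhisker H F') ↔ (H.Full ∧ H.Faithful) := by
  haveI := faithful_of_fiber H F'
  constructor
  · intro hs
    refine ⟨⟨fun {X Y} f => ?_⟩, inferInstance⟩
    obtain ⟨g, hg⟩ := exists_map_eq (H ⋙ F') (X := X) (Y := Y) (fun x => F'.map f x) fun τ x => by
      obtain ⟨σ, rfl⟩ := hs τ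
      exact (mulAction_naturality F' σ f x).symm
    exact ⟨g, F'.map_injective (ConcreteCategory.hom_ext _ _ hg)⟩
  · rintro ⟨hF, -⟩
    rw [← MonoidHom.range_eq_top]
    refine top_le_iff.mp (le_of_forall_stabilizer (H ⋙ F') (isClosed_range_autWhisker H F') fun X a _ h => ?_)
    obtain ⟨s, hs⟩ := (range_le_stabilizer_iff H F' X a).mp h
    obtain ⟨s', hs'⟩ := H.map_surjective ((PreservesTerminal.iso H).hom ≫ s)
    intro τ _
    exact (exists_section_iff (H ⋙ F') a).mpr ⟨s', fun t => by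
      show F'.map (H.map s') t = a
      rw [hs', Functor.map_comp, FintypeCat.comp_apply, hs]⟩ τ

theorem comp_eq_one_iff {C'' : Type u₁} [Category.{v₁} C''] [GaloisCategory C''] (H' : C' ⥤ C'')
    (F'' : C'' ⥤ FintypeCat.{w}) [FiberFunctor F''] [FiberFunctor (H' ⋙ F'')]
    [FiberFunctor (H ⋙ (H' ⋙ F''))] :
    (∀ σ : Aut F'', Pi1X.autWhisker H (H' ⋙ F'') (Pi1X.autWhisker H' F'' σ) = 1) ↔
      ∀ X : C, ∃ n : ℕ, Nonempty (H'.obj (H.obj X) ≅ ∐ fun _ : Fin n => ⊤_ C'') := by
  simp only [autWhisker_eq_one_iff H (H' ⋙ F'')]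
  exact ⟨fun h X => (forall_smul_iff F'').mp fun σ x => h σ X x,
    fun h σ X x => (forall_smul_iff F'').mpr (h X) σ x⟩

theorem ker_le_stabilizer_iff (X' : C') [PreGaloisCategory.IsConnected X'] (a' : F'.obj X') :
    (Pi1X.autWhisker H F').ker ≤ MulAction.stabilizer (Aut F') a' ↔
      ∃ (X : C) (Y' : C') (i : Y' ⟶ H.obj X) (q : Y' ⟶ X'), Mono i ∧ PreGaloisCategory.IsConnected Y' := by
  constructor
  · intro h
    let U' := MulAction.stabilizer (Aut F') a'
    let u := Pi1X.autWhisker H F'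
    -- a compactness argument
    obtain ⟨V, hV, hVU⟩ : ∃ V : Subgroup (Aut (H ⋙ F')), IsOpen (V : Set (Aut (H ⋙ F'))) ∧ V.comap u ≤ U' := by
      have hc : IsCompact ((U' : Set (Aut F'))ᶜ) :=
        (stabilizer_isOpen (Aut F') a').isClosed_compl.isCompact
      obtain ⟨t, ht⟩ := hc.elim_finite_subcover
        (fun V : {V : Subgroup (Aut (H ⋙ F')) // IsOpen (V : Set (Aut (H ⋙ F')))} => (u ⁻¹' (V.1 : Set (Aut (H ⋙ F'))))ᶜ)
        (fun V => ((Subgroup.isClosed_of_isOpen _ V.2).preimage (continuous_autWhisker H F')).isOpen_compl)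
        (fun σ hσ => by
          have hne : u σ ∉ (⊥ : Subgroup (Aut (H ⋙ F'))) := fun e => hσ (h (Subgroup.mem_bot.mp e))
          obtain ⟨V, hV, -, hσV⟩ := exists_open_subgroup_notMem (H ⋙ F') (S := ⊥)
            (by rw [Subgroup.coe_bot]; exact isClosed_singleton) hne
          exact Set.mem_iUnion.mpr ⟨⟨V, hV⟩, hσV⟩)
      refine ⟨t.inf fun V => V.1, ?_, fun σ hσ => by_contra fun hn => ?_⟩
      · clear ht
        induction t using Finset.cons_induction with
        | empty => rw [Finset.inf_empty, Subgroup.coe_top]; exact isOpen_univ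
        | cons V s hs ih => rw [Finset.inf_cons, Subgroup.coe_inf]; exact V.2.inter ih
      · obtain ⟨V, hVt, hσV⟩ := Set.mem_iUnion₂.mp (ht hn)
        exact hσV (Finset.inf_le (f := fun V : {V : Subgroup (Aut (H ⋙ F')) // IsOpen (V : Set (Aut (H ⋙ F')))} => V.1) hVt hσ)
    obtain ⟨X, x, hX, hx⟩ := exists_stabilizer_eq (H ⋙ F') V hV
    obtain ⟨Y', i, y, hiy, hY', hi⟩ := fiber_in_connected_component F' (H.obj X) (show F'.obj (H.obj X) from x)
    obtain ⟨q, -⟩ := exists_hom_of_stabilizer_le F' y a' fun σ hσ => hVU (by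
      show u σ ∈ V
      rw [← hx]
      exact MulAction.mem_stabilizer_iff.mpr (MulAction.mem_stabilizer_iff.mp
        (hiy ▸ stabilizer_map_ge F' i y hσ : σ ∈ MulAction.stabilizer (Aut F') (show F'.obj (H.obj X) from x))))
    exact ⟨X, Y', i, q, hi, hY'⟩
  · rintro ⟨X, Y', i, q, hi, hY'⟩ σ hσ
    haveI : Nonempty (F'.obj Y') := inferInstance
    obtain ⟨y, rfl⟩ := surjective_of_nonempty_fiber_of_isConnected F' q a'
    rw [MulAction.mem_stabilizer_iff, mulAction_naturality]
    congr 1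
    refine (ConcreteCategory.mono_iff_injective_of_preservesPullback (F'.map i)).mp inferInstance ?_
    rw [← mulAction_naturality]
    exact (autWhisker_eq_one_iff H F' σ).mp (MonoidHom.mem_ker.mp hσ) X _

theorem injective_iff :
    Function.Injective (Pi1X.autWhisker H F') ↔
      ∀ X' : C', PreGaloisCategory.IsConnected X' → ∃ (X : C) (Y' : C') (p : Y' ⟶ X') (q : Y' ⟶ H.obj X), Epi p ∧ Mono q := by
  rw [← MonoidHom.ker_eq_bot_iff]
  constructor
  · intro h X' hX'
    obtain ⟨a⟩ := nonempty_fiber_of_isConnected F' X'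
    obtain ⟨X, Y', i, q, hi, hY'⟩ := (ker_le_stabilizer_iff H F' X' a).mp (h.le.trans bot_le)
    haveI : Nonempty (F'.obj Y') := inferInstance
    exact ⟨X, Y', q, i, epi_of_nonempty_of_isConnected F' q, hi⟩
  · intro h
    refine eq_bot_iff.mpr fun σ hσ => Subgroup.mem_bot.mpr ?_
    refine eq_one_of_forall_smul F' fun X' hX' a => ?_
    obtain ⟨X, Y', p, q, hp, hq⟩ := h X' hX'
    obtain ⟨y, rfl⟩ := surjective_on_fiber_of_epi F' p a
    obtain ⟨Z, j, z, hz, hZ, hj⟩ := fiber_in_connected_component F' Y' y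
    haveI := hj
    haveI := hq
    exact MulAction.mem_stabilizer_iff.mp
      ((ker_le_stabilizer_iff H F' X' _).mpr ⟨X, Z, j ≫ q, j ≫ p, mono_comp j q, hZ⟩ hσ)

theorem ker_le_range_iff {C'' : Type u₁} [Category.{v₁} C''] [GaloisCategory C''] (H' : C' ⥤ C'')
    [PreservesFiniteLimits H'] (F'' : C'' ⥤ FintypeCat.{w}) [FiberFunctor F''] [FiberFunctor (H' ⋙ F'')]
    [FiberFunctor (H ⋙ (H' ⋙ F''))] :
    (Pi1X.autWhisker H (H' ⋙ F'')).ker ≤ (Pi1X.autWhisker H' F'').range ↔
      ∀ (X' : C') (a' : (H' ⋙ F'').obj X'), PreGaloisCategory.IsConnected X' →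
        (∃ s : ⊤_ C'' ⟶ H'.obj X', ∀ t : F''.obj (⊤_ C''), F''.map s t = a') →
          ∃ (X : C) (Y' : C') (i : Y' ⟶ H.obj X) (q : Y' ⟶ X'), Mono i ∧ PreGaloisCategory.IsConnected Y' := by
  constructor
  · intro h X' a' hX' hs
    exact (ker_le_stabilizer_iff H (H' ⋙ F'') X' a').mp (h.trans ((range_le_stabilizer_iff H' F'' X' a').mpr hs))
  · intro h
    refine le_of_forall_stabilizer (H' ⋙ F'') (isClosed_range_autWhisker H' F'') fun X' a' hX' hle => ?_
    exact (ker_le_stabilizer_iff H (H' ⋙ F'') X' a').mpr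
      (h X' a' hX' ((range_le_stabilizer_iff H' F'' X' a').mp hle))

theorem exact_iff {C'' : Type u₁} [Category.{v₁} C''] [GaloisCategory C''] (H' : C' ⥤ C'')
    [PreservesFiniteLimits H'] (F'' : C'' ⥤ FintypeCat.{w}) [FiberFunctor F''] [FiberFunctor (H' ⋙ F'')]
    [FiberFunctor (H ⋙ (H' ⋙ F''))] :
    (Function.Surjective (Pi1X.autWhisker H (H' ⋙ F'')) ∧
      (∀ σ : Aut F'', Pi1X.autWhisker H (H' ⋙ F'') (Pi1X.autWhisker H' F'' σ) = 1) ∧
      (Pi1X.autWhisker H (H' ⋙ F'')).ker = (Subgroup.normalClosure (Set.range (Pi1X.autWhisker H' F''))).topologicalClosure) ↔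
    ((H.Full ∧ H.Faithful) ∧
      ∀ X' : C', (∃ X : C, Nonempty (H.obj X ≅ X')) ↔ ∃ n : ℕ, Nonempty (H'.obj X' ≅ ∐ fun _ : Fin n => ⊤_ C'')) := by
  let G := H' ⋙ F''
  let u := Pi1X.autWhisker H G
  let u' := Pi1X.autWhisker H' F''
  let N := (Subgroup.normalClosure (Set.range u')).topologicalClosure
  have hkc : IsClosed (u.ker : Set (Aut G)) := isClosed_singleton.preimage (continuous_autWhisker H G)
  have triv_iff : ∀ X' : C', (∃ n : ℕ, Nonempty (H'.obj X' ≅ ∐ fun _ : Fin n => ⊤_ C'')) ↔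
      N ≤ (MulAction.toPermHom (Aut G) (G.obj X')).ker := by
    intro X'
    rw [← forall_smul_iff F'']
    constructor
    · intro h
      refine Subgroup.topologicalClosure_minimal _ (Subgroup.normalClosure_le_normal ?_) ?_
      · rintro _ ⟨σ, rfl⟩
        exact Equiv.ext fun x => h σ x
      · have : ((MulAction.toPermHom (Aut G) (G.obj X')).ker : Set (Aut G)) =
            ⋂ x : G.obj X', (MulAction.stabilizer (Aut G) x : Set (Aut G)) := by
          ext g
          simp only [SetLike.mem_coe, MonoidHom.mem_ker, Set.mem_iInter, MulAction.mem_stabilizer_iff]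
          exact ⟨fun e x => DFunLike.congr_fun e x, fun e => Equiv.ext e⟩
        rw [this]
        exact isClosed_iInter fun x => Subgroup.isClosed_of_isOpen _ (stabilizer_isOpen _ x)
    · intro h σ x
      exact DFunLike.congr_fun (MonoidHom.mem_ker.mp (h (Subgroup.le_topologicalClosure _ (Subgroup.subset_normalClosure ⟨σ, rfl⟩)))) x
  constructor
  · rintro ⟨hs, h1, hk⟩
    obtain ⟨hfull, hfaith⟩ := (surjective_iff H G).mp hs
    refine ⟨⟨hfull, hfaith⟩, fun X' => ⟨?_, ?_⟩⟩
    · rintro ⟨X, ⟨e⟩⟩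
      obtain ⟨n, ⟨e'⟩⟩ := (comp_eq_one_iff H H' F'').mp h1 X
      exact ⟨n, ⟨(H'.mapIso e).symm ≪≫ e'⟩⟩
    · intro hX'
      have hN : u.ker ≤ (MulAction.toPermHom (Aut G) (G.obj X')).ker := hk.le.trans ((triv_iff X').mp hX')
      let lift := MonoidHom.liftOfSurjective u hs ⟨MulAction.toPermHom (Aut G) (G.obj X'), hN⟩
      have hlift : ∀ σ : Aut G, lift (u σ) = MulAction.toPermHom (Aut G) (G.obj X') σ := fun σ =>
        MonoidHom.liftOfRightInverse_comp_apply u _ (Function.rightInverse_surjInv hs) ⟨MulAction.toPermHom (Aut G) (G.obj X'), hN⟩ σ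
      letI : MulAction (Aut (H ⋙ G)) (G.obj X') := MulAction.compHom _ lift
      have hq : Topology.IsQuotientMap u :=
        IsClosedMap.isQuotientMap (continuous_autWhisker H G).isClosedMap (continuous_autWhisker H G) hs
      obtain ⟨X, e, he⟩ := exists_obj_equiv (H ⋙ G) (G.obj X') fun x => by
        rw [← hq.isOpen_preimage]
        convert! stabilizer_isOpen (Aut G) x using 1
        ext σ
        show lift (u σ) x = x ↔ σ • x = x
        rw [hlift]; rfl
      obtain ⟨f, -⟩ := exists_iso_of_equiv G (X := H.obj X) (Y := X') e fun σ x => by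
        have := he (u σ) x
        refine this.trans ?_
        show lift (u σ) (e x) = σ • e x
        rw [hlift]; rfl
      exact ⟨X, ⟨f⟩⟩
  · rintro ⟨⟨hfull, hfaith⟩, hess⟩
    have h1 := (comp_eq_one_iff H H' F'').mpr fun X => (hess (H.obj X)).mp ⟨X, ⟨Iso.refl _⟩⟩
    refine ⟨(surjective_iff H G).mpr ⟨hfull, hfaith⟩, h1, le_antisymm ?_ ?_⟩
    · refine le_of_forall_stabilizer G (Subgroup.isClosed_topologicalClosure _) fun X' a hX' hle => ?_
      have htriv : N ≤ (MulAction.toPermHom (Aut G) (G.obj X')).ker := fun g hg => Equiv.ext fun x => by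
        obtain ⟨τ, rfl⟩ := MulAction.exists_smul_eq (Aut G) a x
        haveI : (Subgroup.normalClosure (Set.range u')).Normal := Subgroup.normalClosure_normal
        haveI : N.Normal := Subgroup.is_normal_topologicalClosure _
        have := MulAction.mem_stabilizer_iff.mp (hle (show τ⁻¹ * g * τ ∈ N by
          simpa using (inferInstance : N.Normal).conj_mem g hg τ⁻¹))
        rw [mul_smul, mul_smul, inv_smul_eq_iff] at this
        exact this
      obtain ⟨X, ⟨e⟩⟩ := (hess X').mpr ((triv_iff X').mpr htriv)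
      intro σ hσ
      have hfix := (autWhisker_eq_one_iff H G σ).mp (MonoidHom.mem_ker.mp hσ) X
      rw [MulAction.mem_stabilizer_iff]
      obtain ⟨x, rfl⟩ := ((ConcreteCategory.isIso_iff_bijective (G.map e.hom)).mp inferInstance).2 a
      rw [mulAction_naturality, hfix]
    · refine Subgroup.topologicalClosure_minimal _ (Subgroup.normalClosure_le_normal ?_) hkc
      rintro _ ⟨σ, rfl⟩
      exact MonoidHom.mem_ker.mpr (h1 σ)

end Groth.Agent.GaloisCat
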