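import Mathlib.CategoryTheory.Galois.Equivalence
import Mathlib.CategoryTheory.Galois.Topology
import Mathlib.CategoryTheory.CofilteredSystem
import Mathlib.Topology.Algebra.OpenSubgroup

/-!
# Galois categories: dictionary between objects and finite continuous `Aut F`-sets
-/

set_option autoImplicit false
set_option linter.style.haveILetI false
set_option backward.isDefEq.respectTransparency.types false
universe u₁ v₁ w

namespace Groth.Agent.GaloisCat

open CategoryTheory Limits PreGaloisCategory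

variable {C : Type u₁} [Category.{v₁} C] [GaloisCategory C]
  (F : C ⥤ FintypeCat.{w}) [FiberFunctor F]

open scoped FintypeCatDiscrete Pointwise

theorem isConnected_of_isPretransitive (X : C) [Nonempty (F.obj X)]
    [MulAction.IsPretransitive (Aut F) (F.obj X)] : PreGaloisCategory.IsConnected X where
  notInitial := not_initial_of_inhabited F (Classical.arbitrary (F.obj X))
  noTrivialComponent Y i _ hY := by
    obtain ⟨y⟩ : Nonempty (F.obj Y) := (not_initial_iff_fiber_nonempty F Y).mp hY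
    refine isIso_of_mono_of_eq_card_fiber F i (Nat.card_eq_of_bijective (F.map i) ⟨?_, fun x => ?_⟩)
    · exact (ConcreteCategory.mono_iff_injective_of_preservesPullback (F.map i)).mp inferInstance
    · obtain ⟨σ, hσ⟩ := MulAction.exists_smul_eq (Aut F) (F.map i y) x
      exact ⟨σ • y, by rw [← hσ]; exact (mulAction_naturality F σ i y).symm⟩

/-- Morphisms are the equivariant maps. -/
theorem exists_map_eq {X Y : C} (φ : F.obj X → F.obj Y)
    (h : ∀ (σ : Aut F) (x : F.obj X), φ (σ • x) = σ • φ x) :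
    ∃ f : X ⟶ Y, ∀ x, F.map f x = φ x := by
  let ψ : (functorToAction F).obj X ⟶ (functorToAction F).obj Y :=
    ⟨FintypeCat.homMk φ, fun σ => ConcreteCategory.hom_ext _ _ fun x => h σ x⟩
  obtain ⟨f, hf⟩ := (functorToAction F).map_surjective ψ
  exact ⟨f, fun x => ConcreteCategory.congr_hom (congrArg Action.Hom.hom hf) x⟩

theorem exists_iso_of_equiv {X Y : C} (e : F.obj X ≃ F.obj Y)
    (h : ∀ (σ : Aut F) (x : F.obj X), e (σ • x) = σ • e x) :
    ∃ f : X ≅ Y, ∀ x, F.map f.hom x = e x := by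
  obtain ⟨f, hf⟩ := exists_map_eq F e h
  haveI : IsIso (F.map f) := (ConcreteCategory.isIso_iff_bijective _).mpr (by
    have : ⇑(F.map f) = ⇑e := funext hf
    rw [this]; exact e.bijective)
  haveI := isIso_of_reflects_iso f F
  exact ⟨asIso f, hf⟩

/-- A pointed connected object maps to every point whose stabilizer is bigger. -/
theorem exists_hom_of_stabilizer_le {X Y : C} [PreGaloisCategory.IsConnected X] (x : F.obj X) (y : F.obj Y)
    (h : MulAction.stabilizer (Aut F) x ≤ MulAction.stabilizer (Aut F) y) :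
    ∃ f : X ⟶ Y, F.map f x = y := by
  choose g hg using fun x' : F.obj X => MulAction.exists_smul_eq (Aut F) x x'
  have key : ∀ σ τ : Aut F, σ • x = τ • x → σ • y = τ • y := fun σ τ e => by
    have : τ⁻¹ * σ ∈ MulAction.stabilizer (Aut F) x := by
      rw [MulAction.mem_stabilizer_iff, mul_smul, e, inv_smul_smul]
    have := MulAction.mem_stabilizer_iff.mp (h this)
    rw [mul_smul, inv_smul_eq_iff] at this
    exact this
  obtain ⟨f, hf⟩ := exists_map_eq F (fun x' => g x' • y) fun σ x' => by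
    rw [smul_smul]
    exact key _ _ (by rw [hg, mul_smul, hg])
  refine ⟨f, ?_⟩
  rw [hf]
  simpa using key (g x) 1 (by rw [hg, one_smul])

omit [GaloisCategory C] [FiberFunctor F] in
theorem stabilizer_map_ge {X Y : C} (f : X ⟶ Y) (x : F.obj X) :
    MulAction.stabilizer (Aut F) x ≤ MulAction.stabilizer (Aut F) (F.map f x) := fun σ hσ => by
  rw [MulAction.mem_stabilizer_iff] at hσ ⊢
  rw [mulAction_naturality, hσ]

/-- Every finite set with a continuous action is the fibre of an object. -/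
theorem exists_obj_equiv (Q : Type*) [Finite Q] [MulAction (Aut F) Q]
    (h : ∀ q : Q, IsOpen (MulAction.stabilizer (Aut F) q : Set (Aut F))) :
    ∃ (X : C) (e : F.obj X ≃ Q), ∀ (σ : Aut F) (x : F.obj X), e (σ • x) = σ • e x := by
  classical
  let T : Type w := ULift.{w} (Fin (Nat.card Q))
  let e₀ : T ≃ Q := Equiv.ulift.trans (Finite.equivFin Q).symm
  letI : MulAction (Aut F) T :=
    { smul := fun σ t => e₀.symm (σ • e₀ t)
      one_smul := fun t => by show e₀.symm ((1 : Aut F) • e₀ t) = t; rw [one_smul, e₀.symm_apply_apply]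
      mul_smul := fun σ τ t => by
        show e₀.symm ((σ * τ) • e₀ t) = e₀.symm (σ • e₀ (e₀.symm (τ • e₀ t)))
        rw [e₀.apply_symm_apply, mul_smul] }
  let A : Action FintypeCat.{w} (Aut F) := Action.FintypeCat.ofMulAction (Aut F) (FintypeCat.of T)
  have hA : A.IsContinuous := by
    haveI : DiscreteTopology ((forget₂ (Action FintypeCat.{w} (Aut F)) TopCat).obj A) := ⟨rfl⟩
    refine (continuousSMul_iff_stabilizer_isOpen (M := Aut F)).mpr fun (t : T) => ?_
    convert! h (e₀ t) using 1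
    ext σ
    constructor
    · intro hσ
      have : e₀.symm (σ • e₀ t) = t := hσ
      exact (Equiv.symm_apply_eq e₀).mp this
    · intro hσ
      show e₀.symm (σ • e₀ t) = t
      rw [MulAction.mem_stabilizer_iff.mp hσ, e₀.symm_apply_apply]
  let A' : ContAction FintypeCat.{w} (Aut F) := ⟨A, hA⟩
  obtain ⟨X, ⟨i⟩⟩ : ∃ X, Nonempty ((functorToContAction F).obj X ≅ A') :=
    ⟨_, ⟨(functorToContAction F).objObjPreimageIso A'⟩⟩
  let j : (functorToAction F).obj X ≅ A := (ObjectProperty.ι _).mapIso i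
  let ej : F.obj X ≃ T := FintypeCat.equivEquivIso.symm ((Action.forget _ _).mapIso j)
  refine ⟨X, ej.trans e₀, fun σ x => ?_⟩
  have h1 : ej (σ • x) = σ • ej x := ConcreteCategory.congr_hom (j.hom.comm σ) x
  show e₀ (ej (σ • x)) = σ • e₀ (ej x)
  rw [h1]
  exact e₀.apply_symm_apply _

/-- Open subgroups are stabilizers of pointed connected objects. -/
theorem exists_stabilizer_eq (V : Subgroup (Aut F)) (hV : IsOpen (V : Set (Aut F))) :
    ∃ (X : C) (x : F.obj X), PreGaloisCategory.IsConnected X ∧ MulAction.stabilizer (Aut F) x = V := by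
  haveI : Finite (Aut F ⧸ V) := V.quotient_finite_of_isOpen hV
  have hst : ∀ q : Aut F ⧸ V, IsOpen (MulAction.stabilizer (Aut F) q : Set (Aut F)) := by
    intro q
    obtain ⟨g, rfl⟩ := QuotientGroup.mk_surjective q
    have he : (MulAction.stabilizer (Aut F) (g : Aut F ⧸ V) : Set (Aut F)) = (fun σ => g⁻¹ * σ * g) ⁻¹' (V : Set (Aut F)) := by
      ext σ
      simp only [SetLike.mem_coe, MulAction.mem_stabilizer_iff, Set.mem_preimage]
      show ((σ * g : Aut F) : Aut F ⧸ V) = (g : Aut F ⧸ V) ↔ _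
      rw [QuotientGroup.eq, ← V.inv_mem_iff]
      simp [mul_assoc]
    rw [he]
    exact hV.preimage (by fun_prop)
  obtain ⟨X, e, he⟩ := exists_obj_equiv F (Aut F ⧸ V) hst
  haveI : Nonempty (F.obj X) := ⟨e.symm ((1 : Aut F) : Aut F ⧸ V)⟩
  haveI : MulAction.IsPretransitive (Aut F) (F.obj X) := ⟨fun a b => by
    obtain ⟨σ, hσ⟩ := MulAction.exists_smul_eq (Aut F) (e a) (e b)
    exact ⟨σ, e.injective (by rw [he, hσ])⟩⟩
  refine ⟨X, e.symm ((1 : Aut F) : Aut F ⧸ V), isConnected_of_isPretransitive F X, ?_⟩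
  ext σ
  rw [MulAction.mem_stabilizer_iff, ← e.apply_eq_iff_eq, he, e.apply_symm_apply]
  show ((σ * 1 : Aut F) : Aut F ⧸ V) = ((1 : Aut F) : Aut F ⧸ V) ↔ _
  rw [QuotientGroup.eq]
  simp

/-- A compact subgroup is the intersection of the open subgroups containing it. -/
theorem exists_open_subgroup_notMem {S : Subgroup (Aut F)} (hS : IsClosed (S : Set (Aut F)))
    {g : Aut F} (hg : g ∉ S) :
    ∃ V : Subgroup (Aut F), IsOpen (V : Set (Aut F)) ∧ S ≤ V ∧ g ∉ V := by
  have hnh : ((fun σ => g * σ) ⁻¹' (S : Set (Aut F))ᶜ) ∈ nhds (1 : Aut F) :=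
    (hS.isOpen_compl.preimage (by fun_prop)).mem_nhds (by simpa using hg)
  obtain ⟨A, -, hA⟩ := (nhds_one_has_basis_stabilizers F).mem_iff.mp hnh
  haveI := A.isGalois
  let N := MulAction.stabilizer (Aut F) A.pt
  haveI : N.Normal := stabilizer_normal_of_isGalois F A.obj A.pt
  have hopen : IsOpen (N : Set (Aut F)) := stabilizer_isOpen (Aut F) A.pt
  refine ⟨S ⊔ N, Subgroup.isOpen_mono le_sup_right hopen, le_sup_left, fun hmem => ?_⟩
  obtain ⟨s, hs, n, hn, e⟩ : g ∈ (S : Set (Aut F)) * (N : Set (Aut F)) := by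
    rw [← Subgroup.mul_normal S N]; exact hmem
  have : n⁻¹ ∈ N := N.inv_mem hn
  exact hA this (show g * n⁻¹ ∈ (S : Set (Aut F)) by rw [← e]; simpa using hs)

theorem le_of_forall_stabilizer {K S : Subgroup (Aut F)} (hS : IsClosed (S : Set (Aut F)))
    (h : ∀ (X : C) (x : F.obj X), PreGaloisCategory.IsConnected X → S ≤ MulAction.stabilizer (Aut F) x →
      K ≤ MulAction.stabilizer (Aut F) x) : K ≤ S := by
  intro g hg
  by_contra hgS
  obtain ⟨V, hV, hSV, hgV⟩ := exists_open_subgroup_notMem F hS hgS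
  obtain ⟨X, x, hX, hx⟩ := exists_stabilizer_eq F V hV
  exact hgV (hx ▸ h X x hX (hx ▸ hSV) hg)

theorem eq_one_of_forall_smul {σ : Aut F}
    (h : ∀ (X : C), PreGaloisCategory.IsConnected X → ∀ x : F.obj X, σ • x = x) : σ = 1 := by
  refine Iso.ext (natTrans_ext_of_isGalois F fun X _ => ConcreteCategory.hom_ext _ _ fun x => ?_)
  exact h X inferInstance x

/-- The points fixed by everything are the sections. -/
theorem exists_section_iff {X : C} (x : F.obj X) :
    (∀ σ : Aut F, σ • x = x) ↔ ∃ s : ⊤_ C ⟶ X, ∀ t : F.obj (⊤_ C), F.map s t = x := by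
  haveI hu : Subsingleton (F.obj (⊤_ C)) := by
    have : IsTerminal (F.obj (⊤_ C)) := IsTerminal.isTerminalObj F (⊤_ C) terminalIsTerminal
    refine ⟨fun a b => ?_⟩
    exact ConcreteCategory.congr_hom (this.hom_ext (FintypeCat.homMk (fun _ : F.obj (⊤_ C) => a))
      (FintypeCat.homMk fun _ => b)) a
  constructor
  · intro hx
    obtain ⟨f, hf⟩ := exists_map_eq F (fun _ : F.obj (⊤_ C) => x) fun σ _ => (hx σ).symm
    exact ⟨f, hf⟩
  · rintro ⟨s, hs⟩ σ
    obtain ⟨t⟩ : Nonempty (F.obj (⊤_ C)) := by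
      have : IsTerminal (F.obj (⊤_ C)) := IsTerminal.isTerminalObj F (⊤_ C) terminalIsTerminal
      exact ⟨this.from (FintypeCat.of PUnit.{w+1}) PUnit.unit⟩
    rw [← hs t, mulAction_naturality, hs]
    exact (hs t).symm

theorem card_terminal : Nat.card (F.obj (⊤_ C)) = 1 := by
  have hT : IsTerminal (F.obj (⊤_ C)) := IsTerminal.isTerminalObj F (⊤_ C) terminalIsTerminal
  haveI : Subsingleton (F.obj (⊤_ C)) := ⟨fun a b =>
    ConcreteCategory.congr_hom (hT.hom_ext (FintypeCat.homMk (fun _ : F.obj (⊤_ C) => a)) (FintypeCat.homMk fun _ => b)) a⟩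
  haveI : Nonempty (F.obj (⊤_ C)) := ⟨hT.from (FintypeCat.of PUnit.{w+1}) PUnit.unit⟩
  exact Nat.card_unique

/-- Completely decomposed objects are those with trivial action. -/
theorem forall_smul_iff {X : C} :
    (∀ (σ : Aut F) (x : F.obj X), σ • x = x) ↔ ∃ n : ℕ, Nonempty (X ≅ ∐ fun _ : Fin n => ⊤_ C) := by
  haveI : Subsingleton (F.obj (⊤_ C)) := (Nat.card_eq_one_iff_unique.mp (card_terminal F)).1
  have triv : ∀ n : ℕ, ∀ (σ : Aut F) (z : F.obj (∐ fun _ : Fin n => ⊤_ C)), σ • z = z := by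
    intro n σ z
    let s' := isColimitOfPreserves F (coproductIsCoproduct fun _ : Fin n => ⊤_ C)
    obtain ⟨⟨j⟩, (t : F.obj (⊤_ C)), rfl⟩ := Concrete.isColimit_exists_rep _ s' z
    show σ • F.map (Sigma.ι (fun _ : Fin n => ⊤_ C) j) t = F.map (Sigma.ι (fun _ : Fin n => ⊤_ C) j) t
    rw [mulAction_naturality, Subsingleton.elim (σ • t) t]
  constructor
  · intro h
    classical
    let n := Nat.card (F.obj X)
    let e : Fin n ≃ F.obj X := (Finite.equivFin _).symm
    obtain ⟨t⟩ : Nonempty (F.obj (⊤_ C)) := (Nat.card_eq_one_iff_unique.mp (card_terminal F)).2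
    choose s hs using fun j => (exists_section_iff F (e j)).mp fun σ => h σ _
    let f : (∐ fun _ : Fin n => ⊤_ C) ⟶ X := Sigma.desc s
    refine ⟨n, ⟨?_⟩⟩
    haveI : IsIso (F.map f) := by
      rw [ConcreteCategory.isIso_iff_bijective]
      let g : Fin n → F.obj (∐ fun _ : Fin n => ⊤_ C) := fun j => F.map (Sigma.ι (fun _ : Fin n => ⊤_ C) j) t
      have hg : Function.Surjective g := by
        intro z
        let s' := isColimitOfPreserves F (coproductIsCoproduct fun _ : Fin n => ⊤_ C)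
        obtain ⟨⟨j⟩, (t' : F.obj (⊤_ C)), rfl⟩ := Concrete.isColimit_exists_rep _ s' z
        refine ⟨j, ?_⟩
        show F.map (Sigma.ι (fun _ : Fin n => ⊤_ C) j) t = F.map (Sigma.ι (fun _ : Fin n => ⊤_ C) j) t'
        rw [Subsingleton.elim t t']
      have hfg : ∀ j, F.map f (g j) = e j := fun j => by
        show F.map f (F.map (Sigma.ι _ j) t) = e j
        rw [← FintypeCat.comp_apply, ← F.map_comp, Sigma.ι_desc, hs]
      refine ⟨fun a b hab => ?_, fun x => ⟨g (e.symm x), by rw [hfg, e.apply_symm_apply]⟩⟩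
      obtain ⟨i, rfl⟩ := hg a
      obtain ⟨j, rfl⟩ := hg b
      rw [hfg, hfg] at hab
      rw [e.injective hab]
    haveI := isIso_of_reflects_iso f F
    exact (asIso f).symm
  · rintro ⟨n, ⟨i⟩⟩ σ x
    have hi : Function.Injective (F.map i.hom) :=
      ((ConcreteCategory.isIso_iff_bijective _).mp inferInstance).1
    refine hi ?_
    rw [← mulAction_naturality, triv]

end Groth.Agent.GaloisCat
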