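import Groth.Agent.GaloisCat.Whisker

/-!
# Essential image of a fully faithful exact functor of Galois categories
-/

set_option autoImplicit false
set_option linter.style.haveILetI false
set_option linter.unusedSectionVars false
set_option linter.unusedVariables false
set_option backward.isDefEq.respectTransparency.types false
universe u₁ v₁ w

namespace Groth.Agent.GaloisCat

open CategoryTheory Limits PreGaloisCategory

variable {C C' : Type u₁} [Category.{v₁} C] [Category.{v₁} C'] [GaloisCategory C] [GaloisCategory C']
  (H : C ⥤ C') (F' : C' ⥤ FintypeCat.{w}) [FiberFunctor F'] [FiberFunctor (H ⋙ F')]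
  [PreservesFiniteLimits H]

/-- A connected object receiving a map from a nonempty object in the image of a fully faithful exact
functor is in the essential image. -/
theorem mem_essImage_of_hom (hH : H.Full ∧ H.Faithful) {V : C} [Nonempty (F'.obj (H.obj V))] {X' : C'}
    [PreGaloisCategory.IsConnected X'] (e : H.obj V ⟶ X') : ∃ X : C, Nonempty (H.obj X ≅ X') := by
  let u := Pi1X.autWhisker H F'
  have hs : Function.Surjective u := (surjective_iff H F').mpr hH
  have hsurj := surjective_of_nonempty_fiber_of_isConnected F' e
  have hN : u.ker ≤ (MulAction.toPermHom (Aut F') (F'.obj X')).ker := fun σ hσ => Equiv.ext fun a => by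
    obtain ⟨v, rfl⟩ := hsurj a
    show σ • F'.map e v = F'.map e v
    rw [mulAction_naturality, (autWhisker_eq_one_iff H F' σ).mp (MonoidHom.mem_ker.mp hσ) V v]
  let lift := MonoidHom.liftOfSurjective u hs ⟨MulAction.toPermHom (Aut F') (F'.obj X'), hN⟩
  have hlift : ∀ σ : Aut F', lift (u σ) = MulAction.toPermHom (Aut F') (F'.obj X') σ := fun σ =>
    MonoidHom.liftOfRightInverse_comp_apply u _ (Function.rightInverse_surjInv hs)
      ⟨MulAction.toPermHom (Aut F') (F'.obj X'), hN⟩ σ
  letI : MulAction (Aut (H ⋙ F')) (F'.obj X') := MulAction.compHom _ lift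
  have hq : Topology.IsQuotientMap u :=
    IsClosedMap.isQuotientMap (continuous_autWhisker H F').isClosedMap (continuous_autWhisker H F') hs
  obtain ⟨X, ε, hε⟩ := exists_obj_equiv (H ⋙ F') (F'.obj X') fun x => by
    rw [← hq.isOpen_preimage]
    convert! stabilizer_isOpen (Aut F') x using 1
    ext σ
    show lift (u σ) x = x ↔ σ • x = x
    rw [hlift]; rfl
  obtain ⟨f, -⟩ := exists_iso_of_equiv F' (X := H.obj X) (Y := X') ε fun σ x => by
    refine (hε (u σ) x).trans ?_
    show lift (u σ) (ε x) = σ • ε x
    rw [hlift]; rfl
  exact ⟨X, ⟨f⟩⟩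

end Groth.Agent.GaloisCat
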