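import Mathlib.CategoryTheory.Galois.Topology
import Mathlib.CategoryTheory.Galois.Examples
import Mathlib.CategoryTheory.Action.Continuous
import Mathlib.Topology.Category.FinTopCat
import Mathlib.Topology.Algebra.Category.ProfiniteGrp.Completion

/-!
# Automorphisms of the forgetful functor on finite (continuous) `G`-sets
-/

set_option autoImplicit false
set_option linter.style.haveILetI false
set_option backward.isDefEq.respectTransparency.types false
universe u

namespace Groth.Agent.GaloisCat

open CategoryTheory PreGaloisCategory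
open scoped FintypeCatDiscrete

section discrete

variable (G : Type u) [Group G]

/-- The finite quotient `G ⧸ N` as a `G`-set. -/
noncomputable def quotAction (N : Subgroup G) [Finite (G ⧸ N)] : Action FintypeCat.{u} G :=
  Action.FintypeCat.ofMulAction G (FintypeCat.of (G ⧸ N))

/-- Evaluation at the finite quotients. -/
noncomputable def toCompletion (t : Aut (Action.forget FintypeCat.{u} G)) :
    ProfiniteGrp.ProfiniteCompletion.completion (GrpCat.of G) :=
  ⟨fun N => haveI : Finite (G ⧸ N.toSubgroup) := Subgroup.finite_quotient_of_finiteIndex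
    t.hom.app (quotAction G N.toSubgroup) ((1 : G) : G ⧸ N.toSubgroup), by
    intro N M f
    haveI : Finite (G ⧸ N.toSubgroup) := Subgroup.finite_quotient_of_finiteIndex
    haveI : Finite (G ⧸ M.toSubgroup) := Subgroup.finite_quotient_of_finiteIndex
    let m : quotAction G N.toSubgroup ⟶ quotAction G M.toSubgroup :=
      ⟨FintypeCat.homMk (QuotientGroup.map N.toSubgroup M.toSubgroup (MonoidHom.id G) f.le), fun g =>
        ConcreteCategory.hom_ext _ _ fun x => by
          induction x using Quotient.inductionOn with | _ a => rfl⟩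
    exact (ConcreteCategory.congr_hom (t.hom.naturality m) ((1 : G) : G ⧸ N.toSubgroup)).symm⟩

theorem toCompletion_val (t : Aut (Action.forget FintypeCat.{u} G)) (N : FiniteIndexNormalSubgroup G) :
    haveI : Finite (G ⧸ N.toSubgroup) := Subgroup.finite_quotient_of_finiteIndex
    (toCompletion G t).1 N = t.hom.app (quotAction G N.toSubgroup) ((1 : G) : G ⧸ N.toSubgroup) := rfl

theorem toCompletion_mul (s t : Aut (Action.forget FintypeCat.{u} G)) :
    toCompletion G (s * t) = toCompletion G s * toCompletion G t := by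
  refine Subtype.ext (funext fun N => ?_)
  haveI : Finite (G ⧸ N.toSubgroup) := Subgroup.finite_quotient_of_finiteIndex
  let q : G ⧸ N.toSubgroup := t.hom.app (quotAction G N.toSubgroup) ((1 : G) : G ⧸ N.toSubgroup)
  let m : quotAction G N.toSubgroup ⟶ quotAction G N.toSubgroup :=
    ⟨FintypeCat.homMk fun z : G ⧸ N.toSubgroup => z * q, fun g =>
      ConcreteCategory.hom_ext _ _ fun z => by
        induction z using Quotient.inductionOn with
        | _ a => exact mul_assoc (↑g : G ⧸ N.toSubgroup) (↑a : G ⧸ N.toSubgroup) q |>.trans (by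
            induction q using Quotient.inductionOn with | _ b => rfl)⟩
  let f : G ⧸ N.toSubgroup → G ⧸ N.toSubgroup := fun z => s.hom.app (quotAction G N.toSubgroup) z
  have h : f (((1 : G) : G ⧸ N.toSubgroup) * q) = f ((1 : G) : G ⧸ N.toSubgroup) * q :=
    ConcreteCategory.congr_hom (s.hom.naturality m) ((1 : G) : G ⧸ N.toSubgroup)
  rw [show (((1 : G) : G ⧸ N.toSubgroup) * q) = q from one_mul q] at h
  exact h

theorem toCompletion_injective : Function.Injective (toCompletion G) := by
  intro s t h
  refine Iso.ext (NatTrans.ext (funext fun X => ConcreteCategory.hom_ext _ _ fun (x : X.V) => ?_))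
  let Xv : Type u := X.V
  let K : Subgroup G := (MonoidHom.mk' (fun g => (FintypeCat.equivEquivIso.symm ((Action.ρAut X) g) : Equiv.Perm Xv))
    (fun a b => Equiv.ext fun z => by simp; rfl)).ker
  haveI : K.Normal := MonoidHom.normal_ker _
  haveI : K.FiniteIndex := by
    haveI : Finite (Equiv.Perm Xv) := inferInstance
    exact Subgroup.finiteIndex_ker _
  let N : FiniteIndexNormalSubgroup G := FiniteIndexNormalSubgroup.ofSubgroup K
  haveI : Finite (G ⧸ N.toSubgroup) := Subgroup.finite_quotient_of_finiteIndex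
  let orb : G ⧸ N.toSubgroup → Xv := Quotient.lift (fun g => (X.ρ g).hom x) fun a b hab => by
    have hk : a⁻¹ * b ∈ K := QuotientGroup.leftRel_apply.mp hab
    have := DFunLike.congr_fun (MonoidHom.mem_ker.mp hk) x
    have h1 : (X.ρ (a⁻¹ * b)).hom x = x := this
    show (X.ρ a).hom x = (X.ρ b).hom x
    conv_lhs => rw [← h1]
    show (X.ρ a * X.ρ (a⁻¹ * b) : End X.V).hom x = _
    rw [← map_mul, mul_inv_cancel_left]
  let m : quotAction G N.toSubgroup ⟶ X :=
    ⟨FintypeCat.homMk orb, fun g => ConcreteCategory.hom_ext _ _ fun z => by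
      induction z using Quotient.inductionOn with
      | _ a =>
        show (X.ρ (g * a)).hom x = (X.ρ g * X.ρ a : End X.V).hom x
        rw [map_mul]⟩
  have hm : m.hom ((1 : G) : G ⧸ N.toSubgroup) = x := by
    show (X.ρ 1).hom x = x
    rw [map_one]; rfl
  have hN : s.hom.app (quotAction G N.toSubgroup) ((1 : G) : G ⧸ N.toSubgroup) =
      t.hom.app (quotAction G N.toSubgroup) ((1 : G) : G ⧸ N.toSubgroup) := congrFun (congrArg Subtype.val h) N
  rw [← hm]
  exact (ConcreteCategory.congr_hom (s.hom.naturality m) _).trans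
    ((congrArg (m.hom ·) hN).trans (ConcreteCategory.congr_hom (t.hom.naturality m) _).symm)

theorem continuous_toCompletion : Continuous (toCompletion G) := by
  refine Continuous.subtype_mk (continuous_pi fun N => ?_) _
  haveI : Finite (G ⧸ N.toSubgroup) := Subgroup.finite_quotient_of_finiteIndex
  let F := Action.forget FintypeCat.{u} G
  let Q := quotAction G N.toSubgroup
  let x0 : F.obj Q := ((1 : G) : G ⧸ N.toSubgroup)
  refine (IsLocallyConstant.iff_exists_open _).mpr (fun t => ?_) |>.continuous
  refine ⟨(fun s => t⁻¹ * s) ⁻¹' (MulAction.stabilizer (Aut F) x0 : Set (Aut F)),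
    (stabilizer_isOpen (Aut F) x0).preimage (by fun_prop), by simp, fun s hs => ?_⟩
  have h1 : (t⁻¹ * s) • x0 = x0 := hs
  rw [mul_smul, inv_smul_eq_iff] at h1
  exact h1

end discrete

/-- The canonical map to the automorphisms of the forgetful functor. -/
noncomputable def ofElement (G : Type u) [Group G] (g : G) : Aut (Action.forget FintypeCat.{u} G) :=
  NatIso.ofComponents (fun X => Action.ρAut X g) fun f => (f.comm g).symm

section continuous

variable (G : Type u) [Group G] [TopologicalSpace G] [IsTopologicalGroup G]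

/-- The canonical homomorphism for continuous actions. -/
noncomputable def ofElementCont : G →* Aut (forget₂ (ContAction FintypeCat.{u} G) FintypeCat.{u}) where
  toFun g := NatIso.ofComponents (fun X => Action.ρAut X.obj g) fun f => (f.hom.comm g).symm
  map_one' := Iso.ext (NatTrans.ext (funext fun X => X.obj.ρ.map_one))
  map_mul' a b := Iso.ext (NatTrans.ext (funext fun X => X.obj.ρ.map_mul a b))

omit [IsTopologicalGroup G] in
theorem ofElementCont_app (g : G) (X : ContAction FintypeCat.{u} G) (x : X.obj.V) :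
    (ofElementCont G g).hom.app X x = (X.obj.ρ g).hom x := rfl

theorem continuous_ofElementCont : Continuous (ofElementCont G) := by
  rw [(autEmbedding_isClosedEmbedding _).isInducing.continuous_iff]
  refine continuous_pi fun X => (IsLocallyConstant.iff_exists_open _).mpr (fun g => ?_) |>.continuous
  haveI : ContinuousSMul G ((forget₂ (Action FintypeCat.{u} G) TopCat).obj X.obj) := X.2
  haveI : DiscreteTopology ((forget₂ (Action FintypeCat.{u} G) TopCat).obj X.obj) := ⟨rfl⟩
  refine ⟨⋂ x : X.obj.V, (fun h => g⁻¹ * h) ⁻¹'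
    (MulAction.stabilizer G (show (forget₂ (Action FintypeCat.{u} G) TopCat).obj X.obj from x) : Set G),
    isOpen_iInter_of_finite fun x => (stabilizer_isOpen G _).preimage (by fun_prop), by simp, fun h hh => ?_⟩
  refine Iso.ext (ConcreteCategory.hom_ext _ _ fun x => ?_)
  have h1 : (X.obj.ρ (g⁻¹ * h)).hom x = x := Set.mem_iInter.mp hh x
  show (X.obj.ρ h).hom x = (X.obj.ρ g).hom x
  conv_rhs => rw [← h1]
  show _ = (X.obj.ρ g * X.obj.ρ (g⁻¹ * h) : End X.obj.V).hom x
  rw [← map_mul, mul_inv_cancel_left]

/-- The quotient by an open normal subgroup of finite index as a continuous `G`-set. -/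
noncomputable def quotCont (K : Subgroup G) (hK : IsOpen (K : Set G)) [K.Normal] [Finite (G ⧸ K)] :
    ContAction FintypeCat.{u} G :=
  ⟨Action.FintypeCat.ofMulAction G (FintypeCat.of (G ⧸ K)), by
    haveI : DiscreteTopology ((forget₂ (Action FintypeCat.{u} G) TopCat).obj
        (Action.FintypeCat.ofMulAction G (FintypeCat.of (G ⧸ K)))) := ⟨rfl⟩
    refine (continuousSMul_iff_stabilizer_isOpen (M := G)).mpr fun (q : G ⧸ K) => ?_
    refine Subgroup.isOpen_mono (H₁ := K) (fun k hk => ?_) hK
    induction q using Quotient.inductionOn with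
    | _ a =>
      show ((k * a : G) : G ⧸ K) = (a : G ⧸ K)
      rw [QuotientGroup.mk_mul, (QuotientGroup.eq_one_iff k).mpr hk, one_mul]⟩

theorem denseRange_ofElementCont : DenseRange (ofElementCont G) := by
  classical
  let F := forget₂ (ContAction FintypeCat.{u} G) FintypeCat.{u}
  refine dense_iff_inter_open.mpr fun U hU ⟨t, ht⟩ => ?_
  obtain ⟨W, hW, rfl⟩ := (autEmbedding_isClosedEmbedding F).isInducing.isOpen_iff.mp hU
  obtain ⟨I, V, hV, hVW⟩ := isOpen_pi_iff.mp hW _ ht
  -- the common kernel
  let Y : Type (u+1) := Π X : I, Equiv.Perm (X.1.obj.V : Type u)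
  let a : G →* Y := MonoidHom.mk' (fun g X => FintypeCat.equivEquivIso.symm (Action.ρAut X.1.obj g))
    (fun g h => funext fun X => Equiv.ext fun z => by simp [Y]; rfl)
  haveI : Finite (G ⧸ a.ker) := Finite.of_equiv _ (QuotientGroup.quotientKerEquivRange a).symm.toEquiv
  have hK : IsOpen (a.ker : Set G) := by
    have he : (a.ker : Set G) = ⋂ (X : I), ⋂ (x : X.1.obj.V), {g | (X.1.obj.ρ g).hom x = x} := by
      ext g
      simp only [SetLike.mem_coe, MonoidHom.mem_ker, Set.mem_iInter, Set.mem_ofPred_eq]
      exact ⟨fun e X x => DFunLike.congr_fun (congrFun e X) x, fun e => funext fun X => Equiv.ext fun x => e X x⟩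
    rw [he]
    refine isOpen_iInter_of_finite fun X => isOpen_iInter_of_finite fun x => ?_
    haveI : ContinuousSMul G ((forget₂ (Action FintypeCat.{u} G) TopCat).obj X.1.obj) := X.1.2
    haveI : DiscreteTopology ((forget₂ (Action FintypeCat.{u} G) TopCat).obj X.1.obj) := ⟨rfl⟩
    exact stabilizer_isOpen G (show (forget₂ (Action FintypeCat.{u} G) TopCat).obj X.1.obj from x)
  let Q := quotCont G a.ker hK
  obtain ⟨g, hg⟩ := QuotientGroup.mk_surjective (show G ⧸ a.ker from t.hom.app Q ((1 : G) : G ⧸ a.ker))
  refine ⟨ofElementCont G g, hVW fun X hX => ?_, g, rfl⟩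
  have : autEmbedding F (ofElementCont G g) X = autEmbedding F t X := by
    refine Iso.ext (ConcreteCategory.hom_ext _ _ fun (x : X.obj.V) => ?_)
    let orb : G ⧸ a.ker → X.obj.V := Quotient.lift (fun h => (X.obj.ρ h).hom x) fun p q hpq => by
      have hk : p⁻¹ * q ∈ a.ker := QuotientGroup.leftRel_apply.mp hpq
      have h1 : (X.obj.ρ (p⁻¹ * q)).hom x = x := DFunLike.congr_fun (congrFun (MonoidHom.mem_ker.mp hk) ⟨X, hX⟩) x
      show (X.obj.ρ p).hom x = (X.obj.ρ q).hom x
      conv_lhs => rw [← h1]
      show (X.obj.ρ p * X.obj.ρ (p⁻¹ * q) : End X.obj.V).hom x = _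
      rw [← map_mul, mul_inv_cancel_left]
    let m : Q ⟶ X := ObjectProperty.homMk ⟨FintypeCat.homMk orb, fun h => ConcreteCategory.hom_ext _ _ fun z => by
      induction z using Quotient.inductionOn with
      | _ p =>
        show (X.obj.ρ (h * p)).hom x = (X.obj.ρ h * X.obj.ρ p : End X.obj.V).hom x
        rw [map_mul]⟩
    have hm : orb ((1 : G) : G ⧸ a.ker) = x := by
      show (X.obj.ρ 1).hom x = x
      rw [map_one]; rfl
    have h2 : t.hom.app X (orb ((1 : G) : G ⧸ a.ker)) = orb (t.hom.app Q ((1 : G) : G ⧸ a.ker)) :=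
      ConcreteCategory.congr_hom (t.hom.naturality m) ((1 : G) : G ⧸ a.ker)
    rw [hm] at h2
    exact (h2.trans (congrArg orb hg.symm)).symm
  rw [this]
  exact (hV X hX).2

theorem existsUnique_factor (Q : Type u) [Group Q] [Finite Q] [TopologicalSpace Q] [DiscreteTopology Q]
    (π : G →* Q) (hπ : Continuous π) :
    ∃! ψ : Aut (forget₂ (ContAction FintypeCat.{u} G) FintypeCat.{u}) →* Q,
      Continuous ψ ∧ ψ.comp (ofElementCont G) = π := by
  let F := forget₂ (ContAction FintypeCat.{u} G) FintypeCat.{u}
  letI : MulAction G Q := MulAction.compHom Q π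
  let X : ContAction FintypeCat.{u} G := ⟨Action.FintypeCat.ofMulAction G (FintypeCat.of Q), by
    haveI : DiscreteTopology ((forget₂ (Action FintypeCat.{u} G) TopCat).obj
        (Action.FintypeCat.ofMulAction G (FintypeCat.of Q))) := ⟨rfl⟩
    refine (continuousSMul_iff_stabilizer_isOpen (M := G)).mpr fun (q : Q) => ?_
    exact (isOpen_discrete {z : Q | z * q = q}).preimage hπ⟩
  let ev : Aut F → Q := fun t => t.hom.app X (1 : Q)
  have hev : ∀ s t : Aut F, ev (s * t) = ev s * ev t := fun s t => by
    let q : Q := ev t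
    let m : X ⟶ X := ObjectProperty.homMk ⟨FintypeCat.homMk fun z : Q => z * q, fun g =>
      ConcreteCategory.hom_ext _ _ fun (z : Q) => mul_assoc (π g) z q⟩
    have : s.hom.app X ((1 : Q) * q) = ev s * q := ConcreteCategory.congr_hom (s.hom.naturality m) (1 : Q)
    rw [one_mul] at this
    exact this
  let ψ : Aut F →* Q := MonoidHom.mk' ev hev
  have hψc : Continuous ψ := by
    refine (IsLocallyConstant.iff_exists_open _).mpr (fun t => ?_) |>.continuous
    let x0 : F.obj X := (1 : Q)
    refine ⟨(fun s => t⁻¹ * s) ⁻¹' (MulAction.stabilizer (Aut F) x0 : Set (Aut F)),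
      (stabilizer_isOpen (Aut F) x0).preimage (by fun_prop), by simp, fun s hs => ?_⟩
    have h1 : (t⁻¹ * s) • x0 = x0 := hs
    rw [mul_smul, inv_smul_eq_iff] at h1
    exact h1
  have hψ : ψ.comp (ofElementCont G) = π := MonoidHom.ext fun g => mul_one (π g)
  exact ⟨ψ, ⟨hψc, hψ⟩, fun χ ⟨hχc, hχ⟩ => DFunLike.coe_injective
    ((denseRange_ofElementCont G).equalizer hχc hψc (funext fun g =>
      (DFunLike.congr_fun hχ g).trans (DFunLike.congr_fun hψ g).symm))⟩

end continuous

end Groth.Agent.GaloisCat
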